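import Groth.Prelude.Def_CInt
import Groth.Agent.Lib.ModM1.Affine
import Groth.Agent.S3834

/-!
# Torsion-free modules and schematically dense opens
-/

set_option autoImplicit false
set_option linter.style.haveILetI false
set_option backward.isDefEq.respectTransparency false
set_option backward.isDefEq.respectTransparency.types false

universe u

open CategoryTheory AlgebraicGeometry TopologicalSpace Opposite

namespace Groth.Agent.SchDense12

theorem map_mem_nonZeroDivisors_of_surjective_injective {A B : Type u} [CommRing A] [CommRing B] (σ : A →+* B)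
    (hσ : Function.Bijective σ) {t : A} (ht : t ∈ nonZeroDivisors A) : σ t ∈ nonZeroDivisors B := by
  rw [mem_nonZeroDivisors_iff_right]
  intro b hb
  obtain ⟨a, rfl⟩ := hσ.2 b
  rw [← map_mul] at hb
  rw [mem_nonZeroDivisors_iff_right.1 ht a (hσ.1 (hb.trans (map_zero σ).symm)), map_zero]

variable {X : Scheme.{u}}

theorem isSchematicallyDense_restrict {U : X.Opens} (hU : CInt.IsSchematicallyDense U) (V : X.Opens) :
    CInt.IsSchematicallyDense (X := (V : Scheme.{u})) (V.ι ⁻¹ᵁ U) := by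
  intro W
  have hle : V.ι ''ᵁ W ⊓ U ≤ V.ι ''ᵁ (W ⊓ V.ι ⁻¹ᵁ U) := by
    rintro z ⟨⟨w, hw, rfl⟩, hz⟩
    exact ⟨w, ⟨hw, hz⟩, rfl⟩
  intro a b hab
  apply hU (V.ι ''ᵁ W)
  have h := congrArg (X.presheaf.map (homOfLE hle).op) hab
  have key : ∀ (A B C : X.Opens) (i : B ≤ A) (j : C ≤ B) (c : Γ(X, A)),
      X.presheaf.map (homOfLE j).op (X.presheaf.map (homOfLE i).op c) = X.presheaf.map (homOfLE (j.trans i)).op c := by
    intro A B C i j c
    exact (ConcreteCategory.congr_hom (X.presheaf.map_comp (homOfLE i).op (homOfLE j).op) c).symm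
  exact ((key _ _ _ (Scheme.Hom.image_mono _ inf_le_left) hle a).symm.trans h).trans
    (key _ _ _ (Scheme.Hom.image_mono _ inf_le_left) hle b)

theorem app_injective [IsLocallyNoetherian X] {F G : X.Modules} (hF : Coh.IsQCoh F)
    (htf : ∀ V : X.affineOpens, Submodule.torsion Γ(X, V.1) (F.val.obj (op V.1)) = ⊥)
    (φ : F ⟶ G) {U : X.Opens} (hU : CInt.IsSchematicallyDense U)
    (hφU : ∀ V : X.Opens, V ≤ U → Function.Injective (φ.app V)) (V : X.Opens) :
    Function.Injective (φ.app V) := by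
  rw [injective_iff_map_eq_zero]
  have hA : ∀ V : X.Opens, IsAffineOpen V → ∀ s : Γ(F, V), φ.app V s = 0 → s = 0 := by
    intro V hV s hs
    haveI : IsAffine (V : Scheme.{u}) := hV
    haveI : IsNoetherian (V : Scheme.{u}) := {}
    obtain ⟨t, ht, htU⟩ := (Groth.Agent.S3834.result (V : Scheme.{u}) (Or.inl inferInstance) (V.ι ⁻¹ᵁ U)).1
      (isSchematicallyDense_restrict hU V)
    haveI : Coh.IsQCoh F := hF
    let s' : Γ(F.restrict V.ι, ⊤) := M1.mres F V.ι_image_top.le s
    have h0 : M1.mres (F.restrict V.ι) (inf_le_left : ⊤ ⊓ (V : Scheme.{u}).basicOpen t ≤ ⊤) s' = 0 := by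
      have hle : V.ι ''ᵁ (⊤ ⊓ (V : Scheme.{u}).basicOpen t) ≤ U := by
        rintro _ ⟨w, hw, rfl⟩
        exact htU hw.2
      have hle' : V.ι ''ᵁ (⊤ ⊓ (V : Scheme.{u}).basicOpen t) ≤ V := by
        rintro _ ⟨w, -, rfl⟩; exact w.2
      have h : M1.mres F hle' s = 0 := by
        apply hφU _ hle
        rw [M1.app_mres, hs, map_zero, map_zero]
      rw [← h]
      exact M1.mres_mres F V.ι_image_top.le _ s
    obtain ⟨n, hn⟩ := M1.locInj_affine (F.restrict V.ι) t (isAffineOpen_top (V : Scheme.{u})) s' h0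
    let r : Γ(X, V) := X.presheaf.map (homOfLE V.ι_image_top.ge).op ((V.ι.appIso ⊤).inv (M1.rs ⊤ t))
    have hr : r ^ n • s = 0 := by
      have h2 : (V.ι.appIso ⊤).inv (M1.rs ⊤ t) ^ n • M1.mres F V.ι_image_top.le s = 0 := by
        rw [← map_pow]; exact hn
      have h3 := congrArg (M1.mres F V.ι_image_top.ge) h2
      rw [map_zero, Scheme.Modules.map_smul, map_pow, M1.mres_mres, M1.mres_id] at h3
      exact h3
    let σ : Γ((V : Scheme.{u}), ⊤) →+* Γ(X, V) := ((X.presheaf.map (homOfLE V.ι_image_top.ge).op).hom.comp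
      (V.ι.appIso ⊤).inv.hom).comp ((V : Scheme.{u}).presheaf.map (homOfLE (le_top : (⊤ : (V : Scheme.{u}).Opens) ≤ ⊤)).op).hom
    have hσ : Function.Bijective σ := by
      haveI : IsIso (X.presheaf.map (homOfLE V.ι_image_top.ge).op) := by
        rw [show (homOfLE V.ι_image_top.ge) = eqToHom V.ι_image_top.symm from Subsingleton.elim _ _]
        infer_instance
      haveI : IsIso ((V : Scheme.{u}).presheaf.map (homOfLE (le_top : (⊤ : (V : Scheme.{u}).Opens) ≤ ⊤)).op) := by
        rw [show (homOfLE (le_top : (⊤ : (V : Scheme.{u}).Opens) ≤ ⊤)) = 𝟙 _ from Subsingleton.elim _ _]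
        infer_instance
      exact ((ConcreteCategory.bijective_of_isIso (X.presheaf.map (homOfLE V.ι_image_top.ge).op)).comp
        (ConcreteCategory.bijective_of_isIso (V.ι.appIso ⊤).inv)).comp
        (ConcreteCategory.bijective_of_isIso ((V : Scheme.{u}).presheaf.map
          (homOfLE (le_top : (⊤ : (V : Scheme.{u}).Opens) ≤ ⊤)).op))
    have hnz : r ∈ nonZeroDivisors Γ(X, V) :=
      map_mem_nonZeroDivisors_of_surjective_injective σ hσ ht
    have hmem : s ∈ Submodule.torsion Γ(X, V) (F.val.obj (op V)) :=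
      ⟨⟨r ^ n, pow_mem hnz n⟩, hr⟩
    rw [htf ⟨V, hV⟩] at hmem
    exact hmem
  intro s hs
  refine M1.modules_eq_of_locally_eq F V (fun W : {W : X.Opens // IsAffineOpen W ∧ W ≤ V} => W.1)
    (fun W => W.2.2) (fun x hx => ?_) s 0 fun W => ?_
  · obtain ⟨W, hW, hxW, hWV⟩ := exists_isAffineOpen_mem_and_subset (X := X) (x := x) (U := V) hx
    exact Opens.mem_iSup.2 ⟨⟨W, hW, hWV⟩, hxW⟩
  · rw [map_zero]
    apply hA W.1 W.2.1
    rw [M1.app_mres, hs, map_zero]

end Groth.Agent.SchDense12
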